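import Groth.Agent.UfdExtend.Local

/-!
Gluing generators that agree on a nonempty open, and the extension of functions across a prime.
-/

set_option autoImplicit false
set_option backward.isDefEq.respectTransparency false

universe u

open CategoryTheory CategoryTheory.Limits AlgebraicGeometry TopologicalSpace Opposite
open Groth.Agent.QC (res resO res_res res_smul resO_resO abSheaf section_eq_of_locally)
open TMul (IsGen)

noncomputable section

namespace Groth.Agent.UfdExtend

variable {X : Scheme.{u}}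

lemma isGen_unit_smul {F : X.Modules} {V : X.Opens} {e : Γ(F, V)} (he : IsGen e) {c : Γ(X, V)}
    (hc : IsUnit c) : IsGen (c • e) := fun W hW => by
  have : (fun k : Γ(X, W) => k • res F hW (c • e)) =
      (fun k : Γ(X, W) => k • res F hW e) ∘ fun k => k * resO X hW c := by
    funext k
    rw [res_smul, Function.comp_apply, mul_smul]
  rw [this]
  exact (he W hW).comp (hc.unit.map (resO X hW).toMonoidHom).mulRight_bijective

/-- Generators are recognised locally. -/
lemma isGen_of_locally {F : X.Modules} {V : X.Opens} {e : Γ(F, V)}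
    (h : ∀ x ∈ V, ∃ (W : X.Opens) (hW : W ≤ V), x ∈ W ∧ IsGen (res F hW e)) : IsGen e := by
  intro O hO
  choose W hW hxW hg using fun w : O => h w.1 (hO w.2)
  have hinj : ∀ (P : X.Opens) (hP : P ≤ O) (k k' : Γ(X, P)),
      k • res F (hP.trans hO) e = k' • res F (hP.trans hO) e → k = k' := fun P hP k k' hk => by
    refine TopCat.Presheaf.IsSheaf.section_ext X.sheaf.2 fun w hw => ?_
    refine ⟨W ⟨w, hP hw⟩ ⊓ P, inf_le_right, ⟨hxW _, hw⟩, (hg ⟨w, hP hw⟩ _ inf_le_left).1 ?_⟩
    have h1 := congrArg (res F (inf_le_right : W ⟨w, hP hw⟩ ⊓ P ≤ P)) hk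
    simp only [res_smul, res_res] at h1 ⊢
    exact h1
  refine ⟨fun k k' hk => hinj O le_rfl k k' hk, fun s => ?_⟩
  have hloc : ∀ w : O, ∃ k : Γ(X, W w ⊓ O),
      k • res F ((inf_le_right : W w ⊓ O ≤ O).trans hO) e = res F inf_le_right s := fun w => by
    obtain ⟨k, hk⟩ := (hg w (W w ⊓ O) inf_le_left).2 (res F inf_le_right s)
    refine ⟨k, ?_⟩
    simp only [res_res] at hk
    exact hk
  choose k hk using hloc
  obtain ⟨K, hK, -⟩ := TopCat.Sheaf.existsUnique_gluing' X.sheaf (fun w => W w ⊓ O) O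
    (fun _ => homOfLE inf_le_right) (fun w hw => Opens.mem_iSup.mpr ⟨⟨w, hw⟩, hxW _, hw⟩) k
    (fun w w' => by
      suffices key : ∀ (P : X.Opens) (h1 : P ≤ W w ⊓ O) (h2 : P ≤ W w' ⊓ O),
          resO X h1 (k w) = resO X h2 (k w') from key _ inf_le_left inf_le_right
      intro P h1 h2
      apply hinj P (h1.trans inf_le_right)
      have e1 := congrArg (res F h1) (hk w)
      have e2 := congrArg (res F h2) (hk w')
      rw [res_smul, res_res, res_res] at e1 e2
      exact e1.trans e2.symm)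
  replace hK : ∀ w, resO X (inf_le_right : W w ⊓ O ≤ O) K = k w := hK
  refine ⟨K, section_eq_of_locally fun w hw =>
    ⟨W ⟨w, hw⟩ ⊓ O, inf_le_right, ⟨hxW _, hw⟩, ?_⟩⟩
  rw [res_smul, res_res, hK, hk]

variable {U : X.Opens} {F : X.Modules} {D : X.Opens}

/-- Local generators agreeing with one section on a nonempty open glue to a generator. -/
theorem exists_glue (hF : RankOne U F) (hD : IntOpen X D) {V O : X.Opens} (hV : V ≤ D) (hO : O ≤ D)
    {o : X} (ho : o ∈ O) (E : Γ(F, O))
    (h : ∀ y : V, ∃ (W : X.Opens) (eW : Γ(F, W)), y.1 ∈ W ∧ W ≤ V ∧ IsGen eW ∧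
      res F (inf_le_left : W ⊓ O ≤ W) eW = res F (inf_le_right : W ⊓ O ≤ O) E) :
    ∃ e : Γ(F, V), IsGen e := by
  choose W eW hyW hWV hg hWE using h
  obtain ⟨e, he, -⟩ := TopCat.Sheaf.existsUnique_gluing' (abSheaf F) W V
    (fun y => homOfLE (hWV y)) (fun y hy => Opens.mem_iSup.mpr ⟨⟨y, hy⟩, hyW _⟩) eW (fun y y' => by
      suffices key : ∀ (P : X.Opens) (h1 : P ≤ W y) (h2 : P ≤ W y'),
          res F h1 (eW y) = res F h2 (eW y') from key _ inf_le_left inf_le_right
      intro P h1 h2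
      refine section_eq_of_locally fun p hp => ⟨P, le_rfl, hp, ?_⟩
      rw [Groth.Agent.QC.res_self, Groth.Agent.QC.res_self]
      have hPD : P ≤ D := (h1.trans (hWV y)).trans hV
      obtain ⟨w, hw, hw'⟩ := hD.inter hPD hO hp ho
      refine hF.eq_of_res hD (inf_le_left : P ⊓ O ≤ P) hPD (show w ∈ P ⊓ O from ⟨hw, hw'⟩) ?_
      have e1 := congrArg (res F (inf_le_inf_right O h1)) (hWE y)
      have e2 := congrArg (res F (inf_le_inf_right O h2)) (hWE y')
      rw [res_res, res_res] at e1 e2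
      rw [res_res, res_res]
      exact e1.trans e2.symm)
  replace he : ∀ y, res F (hWV y) e = eW y := he
  exact ⟨e, isGen_of_locally fun y hy => ⟨W ⟨y, hy⟩, hWV _, hyW _, by rw [he]; exact hg _⟩⟩

/-- A function on `D(πa)` agreeing with one on `D(b)` extends to `D(a)` when `π` divides neither. -/
theorem exists_extend_across_prime (hDa : IsAffineOpen D) (hD : IntOpen X D) {π a b : Γ(X, D)}
    (hπ : Prime π) (ha : ¬ π ∣ a) (hb : ¬ π ∣ b) {O : X.Opens} {o : X} (ho : o ∈ O)
    (h₁ : O ≤ X.basicOpen (π * a)) (h₂ : O ≤ X.basicOpen b)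
    (k : Γ(X, X.basicOpen (π * a))) (k' : Γ(X, X.basicOpen b))
    (hk : resO X h₁ k = resO X h₂ k') (h : X.basicOpen (π * a) ≤ X.basicOpen a) :
    ∃ k₀ : Γ(X, X.basicOpen a), resO X h k₀ = k := by
  haveI := hDa.isLocalization_basicOpen (π * a)
  haveI := hDa.isLocalization_basicOpen b
  obtain ⟨m, c, hc⟩ := IsLocalization.Away.surj (π * a) k
  obtain ⟨l, d, hd⟩ := IsLocalization.Away.surj b k'
  replace hc : k * resO X (X.basicOpen_le (π * a)) (π * a) ^ m = resO X (X.basicOpen_le _) c := hc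
  replace hd : k' * resO X (X.basicOpen_le b) b ^ l = resO X (X.basicOpen_le b) d := hd
  have heq : c * b ^ l = d * (π * a) ^ m := by
    refine hD.inj (h₁.trans (X.basicOpen_le _)) le_rfl ho ?_
    have e1 := congrArg (resO X h₁) hc
    have e2 := congrArg (resO X h₂) hd
    simp only [map_mul, map_pow, resO_resO] at e1 e2 ⊢
    rw [← e1, ← e2, hk]
    ring
  haveI := hD.dom le_rfl ((h₁.trans (X.basicOpen_le _)) ho)
  obtain ⟨c', rfl⟩ : π ^ m ∣ c := by
    refine hπ.pow_dvd_of_dvd_mul_right (b := b ^ l) m (fun h' => hb (hπ.dvd_of_dvd_pow h')) ?_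
    exact ⟨d * a ^ m, by rw [heq, mul_pow]; ring⟩
  have hua := Groth.Agent.QC.isUnit_resO_basicOpen hDa a
  refine ⟨resO X (X.basicOpen_le a) c' * (hua.unit⁻¹ ^ m).val, ?_⟩
  have hu := (Groth.Agent.QC.isUnit_resO_basicOpen hDa (π * a)).pow m
  refine hu.mul_right_cancel ?_
  rw [hc, map_mul, resO_resO, Units.val_pow_eq_pow_val, map_pow, map_mul, map_mul, mul_pow, map_pow]
  have h3 := congrArg (resO X h) hua.mul_val_inv
  simp only [map_mul, map_one, resO_resO] at h3
  have h4 : resO X (X.basicOpen_le (π * a)) a ^ m * (resO X h hua.unit⁻¹.val) ^ m = 1 := by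
    rw [← mul_pow, h3, one_pow]
  linear_combination (resO X (X.basicOpen_le (π * a)) c' * resO X (X.basicOpen_le (π * a)) π ^ m) * h4

end Groth.Agent.UfdExtend
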