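import Groth.Agent.UfdExtend.Local

/-!
A generator of the codimension one saturation near a boundary point with factorial local ring.
-/

set_option autoImplicit false
set_option backward.isDefEq.respectTransparency false

universe u

open CategoryTheory CategoryTheory.Limits AlgebraicGeometry TopologicalSpace Opposite
open Groth.Agent.QC (res resO res_res res_smul resO_resO app_res Sub GenOn section_eq_of_locally abSheaf)
open TMul (IsGen)

noncomputable section

namespace Groth.Agent.UfdExtend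

variable {X : Scheme.{u}} [IsLocallyNoetherian X] {U : X.Opens} {F : X.Modules}

theorem exists_generator (hF : RankOne U F) (S : Sub F) (hgen : Groth.Agent.QC.LocFinGen S ⊤)
    (hS : ∀ O ≤ U, S.obj O = ⊤)
    (hufd : ∀ w : X, w ∉ U → UniqueFactorizationMonoid (X.presheaf.stalk w)) {x : X} (hxU : x ∉ U) (hx : x ∈ closure (U : Set X))
    [IsDomain (X.presheaf.stalk x)] [UniqueFactorizationMonoid (X.presheaf.stalk x)] :
    ∃ (D : X.Opens) (e : Γ(F, D)), x ∈ D ∧ e ∈ (codimOne U S).obj D ∧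
      ∀ (V : X.Opens) (hV : V ≤ D), Function.Injective (fun c : Γ(X, V) => c • res F hV e) ∧
        ∀ s ∈ (codimOne U S).obj V, ∃ c : Γ(X, V), c • res F hV e = s := by
  classical
  obtain ⟨D₂, hD₂, hxD₂, -, T₂, hT₂⟩ := hgen x trivial
  obtain ⟨D, hD, hxD, hDD₂, hint⟩ := exists_intOpen (N := D₂) hxD₂
  let T : Finset Γ(F, D) := T₂.image (res F hDD₂)
  have hT : GenOn S D (T : Set Γ(F, D)) := by rw [Finset.coe_image]; exact hT₂.mono hDD₂
  obtain ⟨z, hzD, hzU⟩ := mem_closure_iff.1 hx D D.2 hxD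
  obtain ⟨N, g, hzN, hg⟩ := hF.gen z hzU
  obtain ⟨f, hf0, hfle, hzf⟩ := exists_nonzero_basicOpen_le hD (W := N ⊓ U) ⟨hzN, hzU⟩ hzD
  let Df := X.basicOpen f
  haveI := hD.isLocalization_basicOpen f
  let e₀ : Γ(F, Df) := res F (hfle.trans inf_le_left) g
  have he₀ : IsGen e₀ := hg.res _
  have hcoef : ∀ t : T, ∃ a : Γ(X, Df), a • e₀ = res F (X.basicOpen_le f) t.1 := fun t =>
    isGen_self hg _ _
  choose a ha using hcoef
  obtain ⟨m, hm⟩ := IsLocalization.exist_integer_multiples_of_finite (Submonoid.powers f) a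
  choose b hb using hm
  let v : Γ(X, Df) := resO X (X.basicOpen_le f) m.1
  have hv : IsUnit v := IsLocalization.map_units (M := Submonoid.powers f) Γ(X, Df) m
  replace hb : ∀ t, resO X (X.basicOpen_le f) (b t) = v * a t := fun t =>
    (hb t).trans (Algebra.smul_def _ _)
  let E₀ : Γ(F, Df) := hv.unit⁻¹.val • e₀
  have hE₀ : ∀ t : T, res F (X.basicOpen_le f) t.1 = resO X (X.basicOpen_le f) (b t) • E₀ := fun t => by
    rw [← ha t, hb t, smul_smul, mul_comm v, mul_assoc, IsUnit.mul_val_inv, mul_one]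
  -- not every coefficient vanishes
  haveI hdomD : IsDomain Γ(X, D) := hint.dom le_rfl hxD
  have hb0 : ∃ t, b t ≠ 0 := by
    by_contra hall
    push_neg at hall
    have hT0 : ∀ t ∈ (T : Set Γ(F, D)), res F (X.basicOpen_le f) t = 0 := fun t ht => by
      rw [hE₀ ⟨t, ht⟩, hall, map_zero, zero_smul]
    have he₀S : e₀ ∈ S.obj Df := by rw [hS Df (hfle.trans inf_le_right)]; trivial
    obtain ⟨W, hW, hW', hzW, hspan⟩ := hT.le Df (X.basicOpen_le f) he₀S z hzf hzD
    have h0 : res F hW e₀ = 0 := by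
      refine (Submodule.mem_bot Γ(X, W)).1 ((Submodule.span_le.2 ?_) hspan)
      rintro _ ⟨t, ht, rfl⟩
      rw [SetLike.mem_coe, Submodule.mem_bot, ← res_res F hW (X.basicOpen_le f), hT0 t ht, map_zero]
    haveI := hint.dom hW' hzW
    exact one_ne_zero ((he₀ W hW).1 (show (1 : Γ(X, W)) • res F hW e₀ = 0 • res F hW e₀ by
      rw [zero_smul, one_smul, h0]))
  -- common factor at the point
  haveI : IsNoetherianRing Γ(X, D) := IsLocallyNoetherian.component_noetherian ⟨D, hD⟩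
  let p := (hD.primeIdealOf ⟨x, hxD⟩).asIdeal
  obtain ⟨G, u, h, c, hG, hu, hh, hfac, hhtone⟩ : ∃ (G u h : Γ(X, D)) (c : T → Γ(X, D)), G ≠ 0 ∧
      u ∉ p ∧ h ∉ p ∧ (∀ i, u * b i = G * c i) ∧
      ∀ q : Ideal Γ(X, D), q.IsPrime → h ∉ q → q.height ≤ 1 → ∃ i, c i ∉ q := by
    letI := X.presheaf.algebra_section_stalk (⟨x, hxD⟩ : D)
    haveI := hD.isLocalization_stalk ⟨x, hxD⟩
    exact exists_common_factor p (X.presheaf.stalk x) b hb0
  let D' := X.basicOpen (u * h)
  have hD'D : D' ≤ D := X.basicOpen_le _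
  have hxD' : x ∈ D' := (mem_basicOpen_iff hD hxD _).2 fun hmem =>
    (((hD.primeIdealOf ⟨x, hxD⟩).2).mem_or_mem hmem).elim hu hh
  have hint' := hint.mono hD'D
  have hstar : ∀ y ∈ D', ringKrullDim (X.presheaf.stalk y) ≤ 1 →
      ∃ t : T, y ∈ X.basicOpen (c t) := fun y hy hdim => by
    have hyD := hD'D hy
    rw [ringKrullDim_stalk hD hyD] at hdim
    obtain ⟨i, hi⟩ := hhtone _ (hD.primeIdealOf ⟨y, hyD⟩).2
      (fun hmem => (mem_basicOpen_iff hD hyD _).1 hy (Ideal.mul_mem_left _ _ hmem)) (by exact_mod_cast hdim)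
    exact ⟨i, (mem_basicOpen_iff hD hyD _).2 hi⟩
  -- the normalised local section
  let D₀ := D' ⊓ Df
  have hD₀D : D₀ ≤ D := inf_le_left.trans hD'D
  obtain ⟨z₀, hz₀, hz₀'⟩ := hint.inter hD'D (X.basicOpen_le f) hxD' hzf
  have hz₀D₀ : z₀ ∈ D₀ := ⟨hz₀, hz₀'⟩
  haveI hdom₀ := hint.dom hD₀D hz₀D₀
  have hu' : IsUnit (resO X hD₀D u) := by
    have h1 : IsUnit (resO X hD'D (u * h)) := Groth.Agent.QC.isUnit_resO_basicOpen hD (u * h)
    rw [map_mul] at h1
    have h2 := (isUnit_of_mul_isUnit_left h1).map (resO X (inf_le_left : D₀ ≤ D'))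
    rwa [resO_resO] at h2
  let α : Γ(X, D₀) := resO X hD₀D G * hu'.unit⁻¹.val * resO X (inf_le_right : D₀ ≤ Df) hv.unit⁻¹.val
  have hα : α ≠ 0 := by
    refine mul_ne_zero (mul_ne_zero (fun e => hG ?_) (Units.ne_zero _)) ?_
    · exact hint.inj hD₀D le_rfl hz₀D₀ (by rw [e, map_zero])
    · exact ((hv.unit⁻¹).isUnit.map (resO X (inf_le_right : D₀ ≤ Df))).ne_zero
  obtain ⟨E, hEdef⟩ : ∃ E : Γ(F, D₀), E = α • res F (inf_le_right : D₀ ≤ Df) e₀ := ⟨_, rfl⟩
  have hE : ∀ t : T, res F hD₀D t.1 = resO X hD₀D (c t) • E := fun t => by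
    rw [← res_res F (inf_le_right : D₀ ≤ Df) (X.basicOpen_le f), hE₀ t, smul_smul, res_smul, map_mul,
      resO_resO, hEdef, smul_smul]
    congr 1
    have h1 := congrArg (resO X hD₀D) (hfac t)
    rw [map_mul, map_mul] at h1
    have h2 : resO X hD₀D u * hu'.unit⁻¹.val = 1 := hu'.mul_val_inv
    simp only [α]
    linear_combination (hu'.unit⁻¹.val * resO X (inf_le_right : D₀ ≤ Df) hv.unit⁻¹.val) * h1 -
      (resO X hD₀D (b t) * resO X (inf_le_right : D₀ ≤ Df) hv.unit⁻¹.val) * h2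
  have hTc : ∀ t ∈ (T : Set Γ(F, D)), ∃ c' : Γ(X, D), res F hD₀D t = resO X hD₀D c' • E :=
    fun t ht => ⟨_, hE ⟨t, ht⟩⟩
  -- generators agreeing with `E` near the points of `U`
  have hloc : ∀ y : (D' ⊓ U : X.Opens), ∃ (W : X.Opens) (eW : Γ(F, W)), y.1 ∈ W ∧
      W ≤ D' ⊓ U ∧ IsGen eW ∧
      res F (inf_le_left : W ⊓ D₀ ≤ W) eW = res F (inf_le_right : W ⊓ D₀ ≤ D₀) E := by
    rintro ⟨y, hyD', hyU⟩
    obtain ⟨N', g', hyN', hg'⟩ := hF.gen y hyU
    let M := N' ⊓ (D' ⊓ U)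
    have hyM : y ∈ M := ⟨hyN', hyD', hyU⟩
    have hgS : res F (inf_le_left : M ≤ N') g' ∈ S.obj M := by
      rw [hS M (inf_le_right.trans inf_le_right)]; trivial
    obtain ⟨W₁, hW₁, hW₁', hyW₁, hspan⟩ :=
      hT.le M ((inf_le_right.trans inf_le_left).trans hD'D) hgS y hyM (hD'D hyD')
    obtain ⟨W, hW, hyW, hWW₁⟩ := exists_isAffineOpen_mem_and_subset (x := y) (U := W₁) hyW₁
    replace hWW₁ : W ≤ W₁ := hWW₁
    have hWD' : W ≤ D' := hWW₁.trans (hW₁.trans (inf_le_right.trans inf_le_left))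
    have hWU : W ≤ U := hWW₁.trans (hW₁.trans (inf_le_right.trans inf_le_right))
    have hWD : W ≤ D := hWD'.trans hD'D
    obtain ⟨gW, hgWdef⟩ : ∃ gW : Γ(F, W), gW = res F (hWW₁.trans (hW₁.trans inf_le_left)) g' := ⟨_, rfl⟩
    have hgW : IsGen gW := hgWdef ▸ hg'.res _
    have hspanW := Groth.Agent.QC.res_mem_span (F := F) hWW₁ hspan
    rw [Groth.Agent.QC.image_res_res, res_res, res_res] at hspanW
    obtain ⟨τ, hτ⟩ := coeff_of_mem_span hWD hD₀D E hTc hspanW
    rw [← hgWdef] at hτ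
    obtain ⟨w, hw, hw'⟩ := hint.inter hWD hD₀D hyW hz₀D₀
    have hwD₀ : w ∈ W ⊓ D₀ := ⟨hw, hw'⟩
    have hμ : ∀ t : T, ∃ μ : Γ(X, W), resO X hWD (c t) = μ * τ := fun t => by
      obtain ⟨μ, hμ⟩ := (hgW W le_rfl).2 (res F hWD t.1)
      simp only [Groth.Agent.QC.res_self] at hμ
      refine ⟨μ, hint.inj inf_le_left hWD hwD₀ ?_⟩
      have h1 := congrArg (res F (inf_le_left : W ⊓ D₀ ≤ W)) hμ
      rw [res_smul, hτ, res_res, ← res_res F (inf_le_right : W ⊓ D₀ ≤ D₀) hD₀D, hE t, res_smul,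
        smul_smul, resO_resO] at h1
      rw [resO_resO, map_mul]
      exact hF.smul_inj hint (inf_le_left.trans hWD) (le_refl _) (inf_le_right.trans inf_le_right)
        hwD₀ he₀ (a := resO X (inf_le_right : W ⊓ D₀ ≤ D₀) α)
        (fun e => hα (hint.inj (inf_le_right : W ⊓ D₀ ≤ D₀) hD₀D hwD₀ (by rw [e, map_zero])))
        (s := res F (inf_le_right : W ⊓ D₀ ≤ D₀) E)
        (by rw [res_res, hEdef, res_smul, res_res]) h1.symm
    choose μ hμ using hμ
    have hτy : y ∈ X.basicOpen τ := by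
      refine (mem_basicOpen_iff hW hyW τ).2 fun hmem => ?_
      haveI : IsNoetherianRing Γ(X, W) := IsLocallyNoetherian.component_noetherian ⟨W, hW⟩
      haveI := (hW.primeIdealOf ⟨y, hyW⟩).2
      obtain ⟨q, hq, hqy⟩ := Ideal.exists_minimalPrimes_le (I := Ideal.span {τ})
        ((Ideal.span_singleton_le_iff_mem _).2 hmem)
      obtain ⟨y', hy', hq'⟩ := exists_point hW ⟨q, hq.1.1⟩
      haveI := hq.1.1
      have hdim : ringKrullDim (X.presheaf.stalk y') ≤ 1 := by
        rw [ringKrullDim_stalk hW hy', hq']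
        exact_mod_cast Ideal.height_le_one_of_isPrincipal_of_mem_minimalPrimes (Ideal.span {τ}) q hq
      obtain ⟨t, ht⟩ := hstar y' (hWD' hy') hdim
      have h1 : y' ∈ X.basicOpen (resO X hWD (c t)) := by
        rw [Scheme.basicOpen_res]; exact ⟨hy', ht⟩
      rw [mem_basicOpen_iff hW hy', hq', hμ t] at h1
      exact h1 (Ideal.mul_mem_left _ _ ((Ideal.span_singleton_le_iff_mem _).1 hq.1.2))
    have hτu := Groth.Agent.QC.isUnit_resO_basicOpen hW τ
    refine ⟨X.basicOpen τ, hτu.unit⁻¹.val • res F (X.basicOpen_le τ) gW, hτy,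
      (X.basicOpen_le τ).trans (le_inf hWD' hWU), ?_, ?_⟩
    · intro V hV
      have : (fun k : Γ(X, V) => k • res F hV (hτu.unit⁻¹.val • res F (X.basicOpen_le τ) gW)) =
          (fun k : Γ(X, V) => k • res F (hV.trans (X.basicOpen_le τ)) gW) ∘
            fun k => k * resO X hV hτu.unit⁻¹.val := by
        funext k
        rw [res_smul, res_res, Function.comp_apply, mul_smul]
      rw [this]
      exact (hgW V _).comp (hτu.unit⁻¹.map (resO X hV).toMonoidHom).mulRight_bijective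
    · have hle : X.basicOpen τ ⊓ D₀ ≤ W ⊓ D₀ := inf_le_inf_right _ (X.basicOpen_le τ)
      have h1 := congrArg (res F hle) hτ
      rw [res_smul, res_res, res_res, resO_resO] at h1
      rw [res_smul, res_res, h1, smul_smul, ← resO_resO (inf_le_left : X.basicOpen τ ⊓ D₀ ≤ X.basicOpen τ)
        (X.basicOpen_le τ), ← map_mul, IsUnit.val_inv_mul, map_one, one_smul]
  choose W eW hyW hWle heW hWE using hloc
  -- glue
  obtain ⟨eU, heU, -⟩ := TopCat.Sheaf.existsUnique_gluing' (abSheaf F) W (D' ⊓ U)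
    (fun y => homOfLE (hWle y)) (fun y hy => Opens.mem_iSup.mpr ⟨⟨y, hy⟩, hyW _⟩) eW (fun y y' => by
      suffices key : ∀ (O : X.Opens) (h1 : O ≤ W y) (h2 : O ≤ W y'),
          res F h1 (eW y) = res F h2 (eW y') from key _ inf_le_left inf_le_right
      intro O h1 h2
      refine section_eq_of_locally fun o ho => ⟨O, le_rfl, ho, ?_⟩
      rw [Groth.Agent.QC.res_self, Groth.Agent.QC.res_self]
      have hOD : O ≤ D := (h1.trans (hWle y)).trans (inf_le_left.trans hD'D)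
      obtain ⟨w, hw, hw'⟩ := hint.inter hOD hD₀D ho hz₀D₀
      refine hF.eq_of_res hint (inf_le_left : O ⊓ D₀ ≤ O) hOD (show w ∈ O ⊓ D₀ from ⟨hw, hw'⟩) ?_
      have e1 := congrArg (res F (inf_le_inf_right D₀ h1)) (hWE y)
      have e2 := congrArg (res F (inf_le_inf_right D₀ h2)) (hWE y')
      rw [res_res, res_res] at e1 e2
      rw [res_res, res_res]
      exact e1.trans e2.symm)
  replace heU : ∀ y, res F (hWle y) eU = eW y := heU
  obtain ⟨e, he⟩ := (hF.bij D').2 eU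
  have heD₀ : res F (inf_le_left : D₀ ≤ D') e = E := by
    refine section_eq_of_locally fun w hw => ?_
    let y : (D' ⊓ U : X.Opens) := ⟨w, hw.1, (hfle hw.2).2⟩
    refine ⟨W y ⊓ D₀, inf_le_right, ⟨hyW y, hw⟩, ?_⟩
    rw [← hWE y, ← heU y, ← he, res_res, res_res, res_res]
  have het : ∀ t : T, res F hD'D t.1 = resO X hD'D (c t) • e := fun t => by
    refine hF.eq_of_res hint (inf_le_left : D₀ ≤ D') hD'D hz₀D₀ ?_
    rw [res_smul, res_res, resO_resO, heD₀]
    exact hE t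
  have hgenU : ∀ (y : (D' ⊓ U : X.Opens)) (V : X.Opens) (hV : V ≤ W y) (s : Γ(F, V)),
      ∃ k : Γ(X, V), k • res F (hV.trans ((hWle y).trans inf_le_left)) e = s := fun y V hV s => by
    obtain ⟨k, hk⟩ := isGen_self (heW y) hV s
    refine ⟨k, ?_⟩
    rw [← hk, ← heU y, ← he, res_res, res_res]
  have hinjV : ∀ (V : X.Opens) (hV : V ≤ D'),
      Function.Injective fun k : Γ(X, V) => k • res F hV e := fun V hV k k' hk => by
    refine TopCat.Presheaf.IsSheaf.section_ext X.sheaf.2 fun w hw => ⟨V, le_rfl, hw, ?_⟩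
    have h0 : k = k' := by
      obtain ⟨w', hw', hw''⟩ := hint.inter (hV.trans hD'D) hD₀D hw hz₀D₀
      have hw₀ : w' ∈ V ⊓ D₀ := ⟨hw', hw''⟩
      refine hF.smul_inj hint (hV.trans hD'D) (inf_le_left : V ⊓ D₀ ≤ V) (inf_le_right.trans inf_le_right)
        hw₀ he₀ (a := resO X (inf_le_right : V ⊓ D₀ ≤ D₀) α)
        (fun h' => hα (hint.inj (inf_le_right : V ⊓ D₀ ≤ D₀) hD₀D hw₀ (by rw [h', map_zero]))) ?_ hk
      rw [res_res, ← res_res F (inf_le_right : V ⊓ D₀ ≤ D₀) (inf_le_left : D₀ ≤ D'), heD₀, hEdef, res_smul,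
        res_res]
    rw [h0]
  refine ⟨D', e, hxD', ?_, fun V hV => ⟨hinjV V hV, fun s hs => ?_⟩⟩
  · -- membership
    intro y hy _ hdim
    obtain ⟨t, ht⟩ := hstar y hy hdim
    refine ⟨D' ⊓ X.basicOpen (c t), inf_le_left, ⟨hy, ht⟩, ?_⟩
    have hunit : IsUnit (resO X ((inf_le_left : D' ⊓ X.basicOpen (c t) ≤ D').trans hD'D) (c t)) := by
      rw [← resO_resO (inf_le_right : D' ⊓ X.basicOpen (c t) ≤ _) (X.basicOpen_le (c t))]
      exact (Groth.Agent.QC.isUnit_resO_basicOpen hD (c t)).map _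
    refine (Submodule.smul_mem_iff_of_isUnit _ hunit).1 ?_
    have h1 := S.res_mem ((inf_le_left : D' ⊓ X.basicOpen (c t) ≤ D').trans hD'D) (hT.mem t.1 t.2)
    rw [← res_res F (inf_le_left : D' ⊓ X.basicOpen (c t) ≤ D') hD'D, het t, res_smul, resO_resO] at h1
    exact h1
  -- surjectivity
  have hsurj : ∀ w : V, ∃ (O : X.Opens) (hO : O ≤ V) (k : Γ(X, O)), w.1 ∈ O ∧
      k • res F (hO.trans hV) e = res F hO s := by
    rintro ⟨w, hw⟩
    by_cases hwU : w ∈ U
    · let y : (D' ⊓ U : X.Opens) := ⟨w, hV hw, hwU⟩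
      obtain ⟨k, hk⟩ := hgenU y (W y ⊓ V) inf_le_left (res F inf_le_right s)
      exact ⟨W y ⊓ V, inf_le_right, k, ⟨hyW y, hw⟩, hk⟩
    obtain ⟨M, hM, hwM, hMV⟩ := exists_isAffineOpen_mem_and_subset (x := w) (U := V) hw
    replace hMV : M ≤ V := hMV
    have hMD : M ≤ D := (hMV.trans hV).trans hD'D
    haveI hdomM := hint.dom hMD hwM
    haveI : IsNoetherianRing Γ(X, M) := IsLocallyNoetherian.component_noetherian ⟨M, hM⟩
    obtain ⟨r, hrM, hrD₀⟩ := hint.inter hMD hD₀D hwM hz₀D₀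
    let y₀ : (D' ⊓ U : X.Opens) := ⟨r, hrD₀.1, (hfle hrD₀.2).2⟩
    obtain ⟨k, hk0, hkle, hrk⟩ := exists_nonzero_basicOpen_le hM (W := M ⊓ W y₀) ⟨hrM, hyW y₀⟩ hrM
    obtain ⟨φ, hφ⟩ := hgenU y₀ (X.basicOpen k) (hkle.trans inf_le_right)
      (res F ((X.basicOpen_le k).trans hMV) s)
    haveI := hM.isLocalization_basicOpen k
    obtain ⟨n, a₁, ha₁⟩ := IsLocalization.Away.surj k φ
    replace ha₁ : φ * resO X (X.basicOpen_le k) k ^ n = resO X (X.basicOpen_le k) a₁ := ha₁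
    have heq : a₁ • res F (hMV.trans hV) e = k ^ n • res F hMV s := by
      refine hF.eq_of_res hint (X.basicOpen_le k) hMD hrk ?_
      rw [res_smul, res_smul, res_res, res_res, map_pow, ← ha₁, mul_comm, mul_smul, hφ]
    have hred : ∀ q : Ideal Γ(X, M), q.IsPrime → q ≤ (hM.primeIdealOf ⟨w, hwM⟩).asIdeal →
        q.height ≤ 1 → ∃ s', s' ∉ q ∧ k ^ n ∣ s' * a₁ := by
      intro q hq _ hqh
      obtain ⟨y', hy', hq'⟩ := exists_point hM ⟨q, hq⟩
      have hdim : ringKrullDim (X.presheaf.stalk y') ≤ 1 := by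
        rw [ringKrullDim_stalk hM hy', hq']
        exact_mod_cast hqh
      have hy'D' : y' ∈ D' := hV (hMV hy')
      obtain ⟨O, hOM, hy'O, κ, hκ⟩ : ∃ (O : X.Opens) (hOM : O ≤ M), y' ∈ O ∧ ∃ κ : Γ(X, O),
          κ • res F (hOM.trans (hMV.trans hV)) e = res F (hOM.trans hMV) s := by
        by_cases hy'U : y' ∈ U
        · let y : (D' ⊓ U : X.Opens) := ⟨y', hy'D', hy'U⟩
          obtain ⟨κ, hκ⟩ := hgenU y (W y ⊓ M) inf_le_left (res F (inf_le_right.trans hMV) s)
          exact ⟨W y ⊓ M, inf_le_right, ⟨hyW y, hy'⟩, κ, hκ⟩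
        · obtain ⟨O₁, hO₁, hy'O₁, hsS⟩ := hs y' (hMV hy') hy'U hdim
          have hsS' := S.res_mem (inf_le_left : O₁ ⊓ M ≤ O₁) hsS
          rw [res_res] at hsS'
          obtain ⟨O, hO, hO', hy'O, hspan⟩ :=
            hT.le (O₁ ⊓ M) (inf_le_right.trans hMD) hsS' y' ⟨hy'O₁, hy'⟩ (hMD hy')
          rw [res_res] at hspan
          obtain ⟨κ, hκ⟩ := coeff_of_mem_span hO' hD₀D E hTc hspan
          refine ⟨O, hO.trans inf_le_right, hy'O, κ, ?_⟩
          obtain ⟨o, ho, ho'⟩ := hint.inter hO' hD₀D hy'O hz₀D₀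
          refine hF.eq_of_res hint (inf_le_left : O ⊓ D₀ ≤ O) hO' (show o ∈ O ⊓ D₀ from ⟨ho, ho'⟩) ?_
          rw [← heD₀, res_res] at hκ
          rw [res_smul, res_res, res_res]
          rw [res_res] at hκ
          exact hκ.symm
      obtain ⟨s', hs'le, hys'⟩ := hM.exists_basicOpen_le (⟨y', hy'O⟩ : O) hy'
      have hκeq : resO X hOM a₁ = resO X hOM (k ^ n) * κ := by
        refine hinjV O (hOM.trans (hMV.trans hV)) ?_
        have h1 := congrArg (res F hOM) heq
        rw [res_smul, res_smul, res_res, res_res] at h1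
        change resO X hOM a₁ • _ = (resO X hOM (k ^ n) * κ) • _
        rw [mul_smul, hκ, h1]
      haveI := hM.isLocalization_basicOpen s'
      obtain ⟨m', r', hr'⟩ := IsLocalization.Away.surj s' (resO X hs'le κ)
      replace hr' : resO X hs'le κ * resO X (X.basicOpen_le s') s' ^ m' =
          resO X (X.basicOpen_le s') r' := hr'
      have hs'q : s' ∉ q := by
        have := (mem_basicOpen_iff hM hy' s').1 hys'
        rwa [hq'] at this
      refine ⟨s' ^ m', fun h' => hs'q (hq.mem_of_pow_mem _ h'), r', ?_⟩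
      refine hint.inj (X.basicOpen_le s') hMD hys' ?_
      have h1 := congrArg (resO X hs'le) hκeq
      rw [map_mul, resO_resO, resO_resO] at h1
      rw [map_mul, map_mul, map_pow, ← hr', h1]
      ring
    obtain ⟨s', hs', r', hr'⟩ : ∃ s', s' ∉ (hM.primeIdealOf ⟨w, hwM⟩).asIdeal ∧ k ^ n ∣ s' * a₁ := by
      haveI := (hM.primeIdealOf ⟨w, hwM⟩).2
      have hwD : w ∈ D := hMD hwM
      letI := X.presheaf.algebra_section_stalk (⟨w, hwM⟩ : M)
      haveI := hM.isLocalization_stalk ⟨w, hwM⟩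
      haveI : IsDomain (X.presheaf.stalk w) := IsLocalization.isDomain_of_le_nonZeroDivisors _
        (Ideal.primeCompl_le_nonZeroDivisors (hM.primeIdealOf ⟨w, hwM⟩).asIdeal)
      haveI := hufd w hwU
      exact exists_dvd_mul _ (X.presheaf.stalk w) (pow_ne_zero n hk0) hred
    have hu := Groth.Agent.QC.isUnit_resO_basicOpen hM s'
    refine ⟨X.basicOpen s', (X.basicOpen_le s').trans hMV,
      hu.unit⁻¹.val * resO X (X.basicOpen_le s') r', (mem_basicOpen_iff hM hwM s').2 hs', ?_⟩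
    obtain ⟨o, ho, ho'⟩ := hint.inter ((X.basicOpen_le s').trans hMD) ((X.basicOpen_le k).trans hMD)
      ((mem_basicOpen_iff hM hwM s').2 hs') hrk
    let O := X.basicOpen s' ⊓ X.basicOpen k
    have hkO : IsUnit (resO X ((inf_le_left : O ≤ _).trans (X.basicOpen_le s')) (k ^ n)) := by
      rw [← resO_resO (inf_le_right : O ≤ X.basicOpen k) (X.basicOpen_le k), map_pow]
      exact ((Groth.Agent.QC.isUnit_resO_basicOpen hM k).pow n).map _
    have hsO : IsUnit (resO X ((inf_le_left : O ≤ _).trans (X.basicOpen_le s')) s') := by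
      rw [← resO_resO (inf_le_left : O ≤ X.basicOpen s') (X.basicOpen_le s')]
      exact hu.map _
    refine hF.eq_of_res hint (inf_le_left : O ≤ X.basicOpen s') ((X.basicOpen_le s').trans hMD)
      (show o ∈ O from ⟨ho, ho'⟩) ((hsO.mul hkO).smul_left_cancel.1 ?_)
    have h1 := congrArg (fun q => res F ((inf_le_left : O ≤ _).trans (X.basicOpen_le s')) (s' • q)) heq
    simp only [res_smul, res_res, smul_smul, map_mul] at h1 ⊢
    rw [← h1]
    congr 1
    have h2 : resO X (X.basicOpen_le s') s' * hu.unit⁻¹.val = 1 := hu.mul_val_inv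
    replace h2 := congrArg (resO X (inf_le_left : O ≤ X.basicOpen s')) h2
    have h3 := congrArg (resO X ((inf_le_left : O ≤ _).trans (X.basicOpen_le s'))) hr'
    simp only [map_mul, map_one, resO_resO] at h2 h3 ⊢
    linear_combination (resO X ((inf_le_left : O ≤ _).trans (X.basicOpen_le s')) (k ^ n) *
      resO X ((inf_le_left : O ≤ _).trans (X.basicOpen_le s')) r') * h2 - h3
  choose O hO k hwO hk using hsurj
  obtain ⟨K, hK, -⟩ := TopCat.Sheaf.existsUnique_gluing' X.sheaf O V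
    (fun w => homOfLE (hO w)) (fun w hw => Opens.mem_iSup.mpr ⟨⟨w, hw⟩, hwO _⟩) k (fun w w' => by
      suffices key : ∀ (P : X.Opens) (h1 : P ≤ O w) (h2 : P ≤ O w'),
          resO X h1 (k w) = resO X h2 (k w') from key _ inf_le_left inf_le_right
      intro P h1 h2
      apply hinjV P ((h1.trans (hO w)).trans hV)
      have e1 := congrArg (res F h1) (hk w)
      have e2 := congrArg (res F h2) (hk w')
      rw [res_smul, res_res, res_res] at e1 e2
      exact e1.trans e2.symm)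
  replace hK : ∀ w, resO X (hO w) K = k w := hK
  refine ⟨K, section_eq_of_locally fun w hw => ⟨O ⟨w, hw⟩, hO _, hwO _, ?_⟩⟩
  rw [res_smul, res_res, hK, hk]

end Groth.Agent.UfdExtend
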