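import Mathlib

/-!
A Noetherian domain at a prime with factorial localisation: divisibility is seen at primes of height
at most one, and a finite family has a common factor up to height at most one.
-/

set_option autoImplicit false

namespace Groth.Agent.UfdExtend

open UniqueFactorizationMonoid

variable {A : Type*} [CommRing A] [IsDomain A] [IsNoetherianRing A] (p : Ideal A) [p.IsPrime]
  (R : Type*) [CommRing R] [Algebra A R] [IsLocalization.AtPrime R p] [IsDomain R]
  [UniqueFactorizationMonoid R]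

omit [IsNoetherianRing A] [IsDomain R] [UniqueFactorizationMonoid R] in
include p in
lemma algebraMap_injective : Function.Injective (algebraMap A R) :=
  IsLocalization.injective R (Ideal.primeCompl_le_nonZeroDivisors p)

include R in
/-- Divisibility at the primes of height at most one below `p` gives divisibility at `p`. -/
theorem exists_dvd_mul {f a : A} (hf : f ≠ 0)
    (h : ∀ q : Ideal A, q.IsPrime → q ≤ p → q.height ≤ 1 → ∃ s, s ∉ q ∧ f ∣ s * a) :
    ∃ s, s ∉ p ∧ f ∣ s * a := by
  have hφ := algebraMap_injective p R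
  haveI : IsNoetherianRing R := IsLocalization.isNoetherianRing p.primeCompl _ inferInstance
  have hf' : algebraMap A R f ≠ 0 := (map_ne_zero_iff _ hφ).2 hf
  obtain ⟨f', a', c, hrel, hcf, hca⟩ := exists_reduced_factors _ hf' (algebraMap A R a)
  have hc : c ≠ 0 := fun e => hf' (by rw [← hcf, e, zero_mul])
  by_cases hu : IsUnit f'
  · obtain ⟨r, hr⟩ : algebraMap A R f ∣ algebraMap A R a := by
      rw [← hcf, ← hca]; exact mul_dvd_mul_left c hu.dvd
    obtain ⟨⟨n, s⟩, hns⟩ := IsLocalization.surj p.primeCompl r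
    refine ⟨s.1, s.2, n, hφ ?_⟩
    rw [map_mul, map_mul, hr, ← hns]; ring
  · exfalso
    have hf'0 : f' ≠ 0 := fun e => hf' (by rw [← hcf, e, mul_zero])
    obtain ⟨π, hπ, hπf⟩ := WfDvdMonoid.exists_irreducible_factor hu hf'0
    have hπ' : Prime π := irreducible_iff_prime.mp hπ
    haveI hP : (Ideal.span {π}).IsPrime := (Ideal.span_singleton_prime hπ'.ne_zero).2 hπ'
    let q := (Ideal.span {π}).under A
    have hqp : q ≤ p := fun z hz => by
      by_contra hzp
      exact hP.ne_top (Ideal.eq_top_of_isUnit_mem _ hz (IsLocalization.map_units R (⟨z, hzp⟩ : p.primeCompl)))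
    have hq : q.height ≤ 1 := by
      rw [IsLocalization.height_under p.primeCompl (Ideal.span {π})]
      exact Ideal.height_span_singleton_le_one hπ.not_isUnit
    obtain ⟨s, hs, r, hr⟩ := h q inferInstance hqp hq
    have h1 : f' ∣ algebraMap A R s * a' := by
      refine ⟨algebraMap A R r, mul_left_cancel₀ hc ?_⟩
      have := congrArg (algebraMap A R) hr
      rw [map_mul, map_mul, ← hca, ← hcf] at this
      linear_combination this
    rcases hπ'.dvd_or_dvd (hπf.trans h1) with h2 | h2
    · exact hs (Ideal.mem_span_singleton.2 h2)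
    · exact hπ.not_isUnit (hrel hπf h2)

include R in
/-- A finite family has, near `p`, a common factor leaving no common zero of height at most one. -/
theorem exists_common_factor {ι : Type*} [Finite ι] (b : ι → A) (hb : ∃ i, b i ≠ 0) :
    ∃ (G u h : A) (c : ι → A), G ≠ 0 ∧ u ∉ p ∧ h ∉ p ∧ (∀ i, u * b i = G * c i) ∧
      ∀ q : Ideal A, q.IsPrime → h ∉ q → q.height ≤ 1 → ∃ i, c i ∉ q := by
  classical
  have hφ := algebraMap_injective p R
  haveI : IsNoetherianRing R := IsLocalization.isNoetherianRing p.primeCompl _ inferInstance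
  obtain ⟨i₀, hi₀⟩ := hb
  let P : Set R := {x | ∃ (g : R) (c' : ι → R),
    c' i₀ = x ∧ ∀ i, algebraMap A R (b i) = g * c' i}
  obtain ⟨x, ⟨g, c', hx, hgc⟩, hmin⟩ := (wellFounded_dvdNotUnit (α := R)).has_min P
    ⟨_, 1, fun i => algebraMap A R (b i), rfl, fun i => (one_mul _).symm⟩
  have hb₀ : algebraMap A R (b i₀) ≠ 0 := (map_ne_zero_iff _ hφ).2 hi₀
  have hno : ∀ π : R, Prime π → ∃ i, ¬ π ∣ c' i := by
    intro π hπ
    by_contra hall
    push_neg at hall
    choose d hd using hall
    refine hmin (d i₀) ⟨g * π, d, rfl, fun i => by rw [hgc, hd]; ring⟩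
      ⟨fun e => hb₀ (by rw [hgc, hd, e, mul_zero, mul_zero]), π, hπ.not_isUnit, ?_⟩
    rw [← hx, hd, mul_comm]
  obtain ⟨s, hs⟩ := IsLocalization.exist_integer_multiples_of_finite p.primeCompl c'
  choose c hc using hs
  obtain ⟨⟨G, t⟩, hGt⟩ := IsLocalization.surj p.primeCompl g
  have hs0 : IsUnit (algebraMap A R s) := IsLocalization.map_units R s
  replace hc : ∀ i, algebraMap A R (c i) = algebraMap A R s * c' i := fun i => by
    rw [hc i, Algebra.smul_def]
  have hG : G ≠ 0 := fun e => hb₀ (by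
    rw [hgc i₀]
    simp only [e, map_zero, mul_eq_zero] at hGt
    rw [hGt.resolve_right (IsLocalization.map_units R t).ne_zero, zero_mul])
  have hfac : ∀ i, (t.1 * s.1) * b i = G * c i := fun i => hφ (by
    rw [map_mul, map_mul, map_mul, hgc, hc, ← hGt]; ring)
  let J : Ideal A := Ideal.span (Set.range c)
  have hfin := J.finite_minimalPrimes_of_isNoetherianRing A
  have hsel : ∀ q : Ideal A, ¬ q ≤ p → ∃ e, e ∈ q ∧ e ∉ p := fun q hq => SetLike.not_le_iff_exists.1 hq
  choose e he using hsel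
  let F := hfin.toFinset.filter fun q => ¬ q ≤ p
  let h : A := ∏ q : F, e q.1 (Finset.mem_filter.1 q.2).2
  refine ⟨G, t.1 * s.1, h, c, hG, p.primeCompl.mul_mem t.2 s.2,
    p.primeCompl.prod_mem fun q _ => (he _ _).2, hfac, fun q hqprime hhq hqh => ?_⟩
  by_contra hall
  push_neg at hall
  obtain ⟨q₀, hq₀, hq₀q⟩ := Ideal.exists_minimalPrimes_le (I := J) (J := q)
    (Ideal.span_le.2 (by rintro _ ⟨i, rfl⟩; exact hall i))
  haveI := hq₀.1.1
  by_cases hq₀p : q₀ ≤ p
  swap
  · refine hhq ?_
    have hmem : q₀ ∈ F := Finset.mem_filter.2 ⟨hfin.mem_toFinset.2 hq₀, hq₀p⟩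
    refine Ideal.mem_of_dvd q ?_ (hq₀q (he q₀ hq₀p).1)
    exact Finset.dvd_prod_of_mem (fun q : F => e q.1 (Finset.mem_filter.1 q.2).2) (Finset.mem_univ (⟨q₀, hmem⟩ : F))
  have hh₀ : q₀.height ≤ 1 := (Ideal.height_mono hq₀q).trans hqh
  have hdisj : Disjoint (p.primeCompl : Set A) q₀ :=
    Set.disjoint_left.2 fun a ha ha' => ha (hq₀p ha')
  haveI hQ : (q₀.map (algebraMap A R)).IsPrime :=
    IsLocalization.isPrime_of_isPrime_disjoint p.primeCompl R q₀ inferInstance hdisj
  have hQu : (q₀.map (algebraMap A R)).under A = q₀ :=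
    IsLocalization.under_map_of_isPrime_disjoint p.primeCompl R ‹q₀.IsPrime› hdisj
  have hQh : (q₀.map (algebraMap A R)).height ≤ 1 := by
    rw [← IsLocalization.height_under p.primeCompl, hQu]; exact hh₀
  have hmem : ∀ i, c' i ∈ q₀.map (algebraMap A R) := fun i => by
    refine (Ideal.unit_mul_mem_iff_mem _ hs0).1 ?_
    rw [← hc]
    exact Ideal.mem_map_of_mem _ (hq₀.1.2 (Ideal.subset_span ⟨i, rfl⟩))
  have hQ0 : q₀.map (algebraMap A R) ≠ ⊥ := fun e => by
    have h0 := hmem i₀
    rw [e, Ideal.mem_bot] at h0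
    exact hb₀ (by rw [hgc, h0, mul_zero])
  obtain ⟨π, hπQ, hπ⟩ := hQ.exists_mem_prime_of_ne_bot hQ0
  haveI : (Ideal.span {π}).IsPrime := (Ideal.span_singleton_prime hπ.ne_zero).2 hπ
  have hπ1 : 1 ≤ (Ideal.span {π}).height := by
    rw [ENat.one_le_iff_ne_zero, ← Ideal.height_bot (R := R)]
    refine ne_of_gt (Ideal.height_strict_mono_of_isPrime ?_)
    exact bot_lt_iff_ne_bot.2 (by simpa using hπ.ne_zero)
  have heq : Ideal.span {π} = q₀.map (algebraMap A R) := by
    refine ((Ideal.span_singleton_le_iff_mem _).2 hπQ).eq_or_lt.resolve_right fun hlt => ?_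
    exact absurd (hπ1.trans_lt (Ideal.height_strict_mono_of_isPrime hlt)) (not_lt.2 hQh)
  obtain ⟨i, hi⟩ := hno π hπ
  exact hi (Ideal.mem_span_singleton.1 (heq ▸ hmem i))

end Groth.Agent.UfdExtend
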