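import Groth.Agent.QC.Extend
import Groth.Agent.TMul.Power
import Groth.Agent.UfdExtend.Alg
import Groth.Agent.S2260
import Mathlib

/-!
A rank one module on an open: a generator near a point of the boundary with factorial local ring.
-/

set_option autoImplicit false
set_option backward.isDefEq.respectTransparency false

universe u

open CategoryTheory CategoryTheory.Limits AlgebraicGeometry TopologicalSpace Opposite
open Groth.Agent.QC (res resO res_res res_smul resO_resO app_res Sub GenOn section_eq_of_locally)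
open TMul (IsGen)

noncomputable section

namespace Groth.Agent.UfdExtend

variable {X : Scheme.{u}}

/-- The open behaves like an open of an integral scheme. -/
structure IntOpen (X : Scheme.{u}) (D : X.Opens) : Prop where
  inter : ∀ {V W : X.Opens} {v w : X}, V ≤ D → W ≤ D → v ∈ V → w ∈ W → ∃ z, z ∈ V ∧ z ∈ W
  inj : ∀ {V W : X.Opens} {w : X} (h : W ≤ V), V ≤ D → w ∈ W → Function.Injective (resO X h)
  dom : ∀ {V : X.Opens} {v : X}, V ≤ D → v ∈ V → IsDomain Γ(X, V)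

lemma IntOpen.mono {D D' : X.Opens} (h : IntOpen X D) (hle : D' ≤ D) : IntOpen X D' where
  inter hV hW hv hw := h.inter (hV.trans hle) (hW.trans hle) hv hw
  inj g hV hw := h.inj g (hV.trans hle) hw
  dom hV hv := h.dom (hV.trans hle) hv

lemma intOpen_of_isIntegral (D : X.Opens) [IsIntegral D.toScheme] : IntOpen X D := by
  have key : ∀ {V : X.Opens}, V ≤ D → ∃ V', D.ι ''ᵁ V' = V := fun {V} hV => ⟨D.ι ⁻¹ᵁ V, by
    rw [Scheme.Hom.image_preimage_eq_opensRange_inf, D.opensRange_ι, inf_eq_right.mpr hV]⟩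
  refine ⟨?_, ?_, ?_⟩
  · intro V W v w hV hW hv hw
    obtain ⟨V', rfl⟩ := key hV
    obtain ⟨W', rfl⟩ := key hW
    obtain ⟨v', hv', rfl⟩ := hv
    obtain ⟨w', hw', rfl⟩ := hw
    obtain ⟨z, hz, hz'⟩ := nonempty_preirreducible_inter V'.2 W'.2 ⟨v', hv'⟩ ⟨w', hw'⟩
    exact ⟨D.ι z, ⟨z, hz, rfl⟩, ⟨z, hz', rfl⟩⟩
  · intro V W w h hV hw
    obtain ⟨V', rfl⟩ := key hV
    obtain ⟨W', rfl⟩ := key (h.trans hV)
    obtain ⟨w', hw', rfl⟩ := hw
    haveI : Nonempty W' := ⟨⟨w', hw'⟩⟩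
    have h' : W' ≤ V' := fun y hy => by
      obtain ⟨z, hz, e⟩ := h ⟨y, hy, rfl⟩
      rwa [← D.ι.isOpenEmbedding.injective e]
    exact map_injective_of_isIntegral D.toScheme (homOfLE h')
  · intro V v hV hv
    obtain ⟨V', rfl⟩ := key hV
    obtain ⟨v', hv', rfl⟩ := hv
    haveI : Nonempty V' := ⟨⟨v', hv'⟩⟩
    exact IsIntegral.component_integral (X := D.toScheme) V'

lemma exists_intOpen [IsLocallyNoetherian X] {x : X} [IsDomain (X.presheaf.stalk x)] {N : X.Opens}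
    (hx : x ∈ N) : ∃ D : X.Opens, IsAffineOpen D ∧ x ∈ D ∧ D ≤ N ∧ IntOpen X D := by
  obtain ⟨U, hxU, hU⟩ := Groth.Agent.S2260.result X x
  haveI := hU
  obtain ⟨D, hD, hxD, hDN⟩ :=
    exists_isAffineOpen_mem_and_subset (x := x) (U := U ⊓ N) ⟨hxU, hx⟩
  exact ⟨D, hD, hxD, fun y hy => (hDN hy).2,
    (intOpen_of_isIntegral U).mono fun y hy => (hDN hy).1⟩

variable (U : X.Opens) (F : X.Modules)

/-- `F` is an invertible module on `U`, pushed to `X`. -/
structure RankOne : Prop where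
  bij : ∀ V : X.Opens, Function.Bijective (res F (inf_le_left : V ⊓ U ≤ V))
  gen : ∀ x ∈ U, ∃ (N : X.Opens) (g : Γ(F, N)), x ∈ N ∧ IsGen g

variable {U F}

lemma isGen_self {N : X.Opens} {g : Γ(F, N)} (hg : IsGen g) {V : X.Opens} (hV : V ≤ N)
    (s : Γ(F, V)) : ∃ c : Γ(X, V), c • res F hV g = s := (hg V hV).2 s

namespace RankOne

variable (hF : RankOne U F) {D : X.Opens} (hD : IntOpen X D)
include hF

omit hD in
lemma eq_of_inf {V : X.Opens} {s t : Γ(F, V)}
    (h : res F (inf_le_left : V ⊓ U ≤ V) s = res F (inf_le_left : V ⊓ U ≤ V) t) : s = t :=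
  (hF.bij V).1 h

include hD

/-- Torsion freeness: a section vanishing on a nonempty open vanishes. -/
lemma eq_zero {V W : X.Opens} (h : W ≤ V) (hV : V ≤ D) {w : X} (hw : w ∈ W) {s : Γ(F, V)}
    (hs : res F h s = 0) : s = 0 := by
  refine hF.eq_of_inf ?_
  rw [map_zero]
  refine section_eq_of_locally fun z hz => ?_
  obtain ⟨N, g, hzN, hg⟩ := hF.gen z hz.2
  obtain ⟨c, hc⟩ := isGen_self hg (inf_le_left : N ⊓ (V ⊓ U) ≤ N) (res F (inf_le_right.trans inf_le_left) s)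
  refine ⟨N ⊓ (V ⊓ U), inf_le_right, ⟨hzN, hz⟩, ?_⟩
  rw [res_res, map_zero]
  obtain ⟨z', hz', hz''⟩ := hD.inter ((inf_le_right.trans inf_le_left).trans hV) (h.trans hV) (⟨hzN, hz⟩ : z ∈ N ⊓ (V ⊓ U)) hw
  let W' := N ⊓ (V ⊓ U) ⊓ W
  have h0 : resO X (inf_le_left : W' ≤ N ⊓ (V ⊓ U)) c = 0 := by
    refine (hg W' (inf_le_left.trans inf_le_left)).1 ?_
    change resO X (inf_le_left : W' ≤ _) c • res F _ g = (0 : Γ(X, W')) • _
    have h1 := congrArg (res F (inf_le_left : W' ≤ N ⊓ (V ⊓ U))) hc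
    rw [res_smul, res_res, res_res] at h1
    rw [h1, zero_smul, ← res_res F (inf_le_right : W' ≤ W) h, hs, map_zero]
  have : c = 0 := hD.inj (W := W') inf_le_left ((inf_le_right.trans inf_le_left).trans hV)
    (show z' ∈ W' from ⟨hz', hz''⟩) (by rw [h0, map_zero])
  rw [this, zero_smul] at hc
  exact hc.symm

lemma eq_of_res {V W : X.Opens} (h : W ≤ V) (hV : V ≤ D) {w : X} (hw : w ∈ W) {s t : Γ(F, V)}
    (hs : res F h s = res F h t) : s = t :=
  sub_eq_zero.1 (hF.eq_zero hD h hV hw (by rw [map_sub, hs, sub_self]))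

/-- Coefficients of a section that is a generator somewhere are unique. -/
lemma smul_inj {V N W : X.Opens} (hV : V ≤ D) (hWV : W ≤ V) (hWN : W ≤ N) {w : X} (hw : w ∈ W)
    {g : Γ(F, N)} (hg : IsGen g) {s : Γ(F, V)} {a : Γ(X, W)} (ha : a ≠ 0)
    (hs : res F hWV s = a • res F hWN g) {c c' : Γ(X, V)} (h : c • s = c' • s) : c = c' := by
  haveI := hD.dom (hWV.trans hV) hw
  refine hD.inj hWV hV hw (mul_right_cancel₀ ha ((hg W hWN).1 ?_))
  change (resO X hWV c * a) • res F hWN g = (resO X hWV c' * a) • res F hWN g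
  rw [mul_smul, mul_smul, ← hs, ← res_smul, ← res_smul, h]

end RankOne

lemma mem_basicOpen_iff {D : X.Opens} (hD : IsAffineOpen D) {y : X} (hy : y ∈ D) (c : Γ(X, D)) :
    y ∈ X.basicOpen c ↔ c ∉ (hD.primeIdealOf ⟨y, hy⟩).asIdeal := by
  letI := X.presheaf.algebra_section_stalk (⟨y, hy⟩ : D)
  haveI := hD.isLocalization_stalk ⟨y, hy⟩
  rw [X.mem_basicOpen c y hy]
  exact IsLocalization.AtPrime.isUnit_to_map_iff (X.presheaf.stalk y) _ c

lemma ringKrullDim_stalk {D : X.Opens} (hD : IsAffineOpen D) {y : X} (hy : y ∈ D) :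
    ringKrullDim (X.presheaf.stalk y) = ((hD.primeIdealOf ⟨y, hy⟩).asIdeal.height : WithBot ℕ∞) := by
  letI := X.presheaf.algebra_section_stalk (⟨y, hy⟩ : D)
  haveI := hD.isLocalization_stalk ⟨y, hy⟩
  exact IsLocalization.AtPrime.ringKrullDim_eq_height _ _

lemma exists_point {D : X.Opens} (hD : IsAffineOpen D) (q : PrimeSpectrum Γ(X, D)) :
    ∃ (y : X) (hy : y ∈ D), hD.primeIdealOf ⟨y, hy⟩ = q := by
  haveI := hD.isOpenImmersion_fromSpec
  have hy : hD.fromSpec q ∈ D := hD.range_fromSpec.subset ⟨q, rfl⟩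
  exact ⟨hD.fromSpec q, hy, hD.fromSpec.isOpenEmbedding.injective (hD.fromSpec_primeIdealOf ⟨_, hy⟩)⟩

lemma exists_nonzero_basicOpen_le {D W : X.Opens} (hD : IsAffineOpen D) {w : X} (hw : w ∈ W)
    (hwD : w ∈ D) : ∃ f : Γ(X, D), f ≠ 0 ∧ X.basicOpen f ≤ W ∧ w ∈ X.basicOpen f := by
  obtain ⟨f, hf, hwf⟩ := hD.exists_basicOpen_le (⟨w, hw⟩ : W) hwD
  refine ⟨f, fun e => ?_, hf, hwf⟩
  rw [e, Scheme.basicOpen_zero] at hwf
  exact hwf

/-- A section in the span of restrictions of multiples of `E` is a multiple of `E` after restriction. -/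
lemma coeff_of_mem_span {D N D₀ : X.Opens} {T : Set Γ(F, D)} (hN : N ≤ D) (hD₀ : D₀ ≤ D)
    (E : Γ(F, D₀)) (hT : ∀ t ∈ T, ∃ c : Γ(X, D), res F hD₀ t = resO X hD₀ c • E)
    {s : Γ(F, N)} (hs : s ∈ Submodule.span Γ(X, N) (res F hN '' T)) :
    ∃ τ : Γ(X, N), res F (inf_le_left : N ⊓ D₀ ≤ N) s =
      resO X (inf_le_left : N ⊓ D₀ ≤ N) τ • res F (inf_le_right : N ⊓ D₀ ≤ D₀) E := by
  induction hs using Submodule.span_induction with
  | mem s hs =>
    obtain ⟨t, ht, rfl⟩ := hs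
    obtain ⟨c, hc⟩ := hT t ht
    refine ⟨resO X hN c, ?_⟩
    rw [res_res, ← res_res F (inf_le_right : N ⊓ D₀ ≤ D₀) hD₀, hc, res_smul, resO_resO, resO_resO]
  | zero => exact ⟨0, by simp⟩
  | add a b _ _ ha hb =>
    obtain ⟨α, hα⟩ := ha
    obtain ⟨β, hβ⟩ := hb
    exact ⟨α + β, by rw [map_add, map_add, hα, hβ, add_smul]⟩
  | smul r a _ ha =>
    obtain ⟨α, hα⟩ := ha
    exact ⟨r * α, by rw [res_smul, hα, map_mul, mul_smul]⟩

/-- Sections in `S` at the points outside `U` with local ring of dimension at most one. -/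
def codimOne (U : X.Opens) (S : Sub F) : Sub F where
  obj O :=
    { carrier := {s | ∀ y ∈ O, y ∉ U → ringKrullDim (X.presheaf.stalk y) ≤ 1 →
        ∃ (W : X.Opens) (h : W ≤ O), y ∈ W ∧ res F h s ∈ S.obj W}
      zero_mem' := fun y hy _ _ => ⟨O, le_rfl, hy, by rw [map_zero]; exact Submodule.zero_mem _⟩
      add_mem' := fun {a b} ha hb y hy h1 h2 => by
        obtain ⟨A, hA, hyA, haA⟩ := ha y hy h1 h2
        obtain ⟨B, hB, hyB, hbB⟩ := hb y hy h1 h2
        refine ⟨A ⊓ B, inf_le_left.trans hA, ⟨hyA, hyB⟩, ?_⟩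
        rw [map_add]
        refine Submodule.add_mem _ ?_ ?_
        · have := S.res_mem (inf_le_left : A ⊓ B ≤ A) haA
          rwa [res_res] at this
        · have := S.res_mem (inf_le_right : A ⊓ B ≤ B) hbB
          rwa [res_res] at this
      smul_mem' := fun c a ha y hy h1 h2 => by
        obtain ⟨A, hA, hyA, haA⟩ := ha y hy h1 h2
        exact ⟨A, hA, hyA, by rw [res_smul]; exact Submodule.smul_mem _ _ haA⟩ }
  res_mem := fun {O' O} h {s} hs y hy h1 h2 => by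
    obtain ⟨A, hA, hyA, hsA⟩ := hs y (h hy) h1 h2
    refine ⟨A ⊓ O', inf_le_right, ⟨hyA, hy⟩, ?_⟩
    have := S.res_mem (inf_le_left : A ⊓ O' ≤ A) hsA
    rw [res_res] at this ⊢
    exact this
  local' := fun {O} s hs y hy h1 h2 => by
    obtain ⟨W, hW, hyW, hsW⟩ := hs y hy
    obtain ⟨A, hA, hyA, hsA⟩ := hsW y hyW h1 h2
    rw [res_res] at hsA
    exact ⟨A, hA.trans hW, hyA, hsA⟩

lemma mem_codimOne_of_le {S : Sub F} {O : X.Opens} (h : O ≤ U) (s : Γ(F, O)) :
    s ∈ (codimOne U S).obj O := fun _ hy h1 _ => absurd (h hy) h1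

end Groth.Agent.UfdExtend
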