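import Groth.Agent.UfdExtend.Glue

/-!
A rank one module on an open of an affine with factorial functions has a generator.
-/

set_option autoImplicit false
set_option backward.isDefEq.respectTransparency false

universe u

open CategoryTheory CategoryTheory.Limits AlgebraicGeometry TopologicalSpace Opposite
open Groth.Agent.QC (res resO res_res res_smul resO_resO section_eq_of_locally)
open TMul (IsGen)

noncomputable section

namespace Groth.Agent.UfdExtend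

variable {X : Scheme.{u}} {U D : X.Opens} {F : X.Modules}

lemma mem_basicOpen_mul {a b : Γ(X, D)} {y : X} :
    y ∈ X.basicOpen (a * b) ↔ y ∈ X.basicOpen a ∧ y ∈ X.basicOpen b := by
  rw [Scheme.basicOpen_mul]; rfl

/-- One prime step. -/
theorem exists_gen_step (hF : RankOne U F) (hDa : IsAffineOpen D) (hD : IntOpen X D)
    [UniqueFactorizationMonoid Γ(X, D)] (hUD : U ≤ D) {π f : Γ(X, D)} (hπ : Prime π)
    (g : Γ(F, U ⊓ X.basicOpen (π * f))) (hg : IsGen g) :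
    ∃ e : Γ(F, U ⊓ X.basicOpen f), IsGen e := by
  by_cases hdiv : π ∣ f
  · obtain ⟨t, ht⟩ := hdiv
    have hle : U ⊓ X.basicOpen f ≤ U ⊓ X.basicOpen (π * f) := by
      intro y hy
      refine ⟨hy.1, mem_basicOpen_mul.2 ⟨?_, hy.2⟩⟩
      have h1 : y ∈ X.basicOpen (π * t) := ht ▸ hy.2
      exact (mem_basicOpen_mul.1 h1).1
    exact ⟨_, hg.res hle⟩
  haveI hprime : (Ideal.span {π}).IsPrime := (Ideal.span_singleton_prime hπ.ne_zero).2 hπ
  obtain ⟨y, hyD, hyq⟩ := exists_point hDa ⟨Ideal.span {π}, hprime⟩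
  by_cases hyU : y ∈ U
  swap
  · have hle : U ⊓ X.basicOpen f ≤ U ⊓ X.basicOpen (π * f) := by
      intro q hq
      refine ⟨hq.1, mem_basicOpen_mul.2 ⟨?_, hq.2⟩⟩
      by_contra hqπ
      rw [mem_basicOpen_iff hDa (hUD hq.1), not_not] at hqπ
      refine hyU (Specializes.mem_open ?_ U.2 hq.1)
      haveI := hDa.isOpenImmersion_fromSpec
      refine (congrArg₂ (· ⤳ ·) (hDa.fromSpec_primeIdealOf ⟨y, hyD⟩)
        (hDa.fromSpec_primeIdealOf ⟨q, hUD hq.1⟩)).mp ?_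
      rw [hyq]
      exact Specializes.map ((PrimeSpectrum.le_iff_specializes _ _).1
        ((Ideal.span_singleton_le_iff_mem _).2 hqπ)) hDa.fromSpec.continuous
    exact ⟨_, hg.res hle⟩
  have hyf : y ∈ X.basicOpen f := by
    rw [mem_basicOpen_iff hDa hyD, hyq]
    exact fun h => hdiv (Ideal.mem_span_singleton.1 h)
  obtain ⟨N, h, hyN, hh⟩ := hF.gen y hyU
  obtain ⟨b, hble, hyb⟩ := hDa.exists_basicOpen_le (⟨y, hyN, hyU, hyf⟩ : (N ⊓ (U ⊓ X.basicOpen f) : X.Opens)) hyD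
  have hπb : ¬ π ∣ b := fun hd => by
    have := (mem_basicOpen_iff hDa hyD b).1 hyb
    rw [hyq] at this
    exact this (Ideal.mem_span_singleton.2 hd)
  haveI hdom := hD.dom le_rfl hyD
  -- nonempty open O
  obtain ⟨o, ho⟩ : ∃ o, o ∈ X.basicOpen (π * b) := by
    obtain ⟨q, hq, hq'⟩ := exists_point hDa ⟨⊥, Ideal.isPrime_bot⟩
    refine ⟨q, (mem_basicOpen_iff hDa hq _).2 ?_⟩
    rw [hq']
    simpa using mul_ne_zero hπ.ne_zero (fun e => hπb (by rw [e]; exact dvd_zero π))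
  have hOg : X.basicOpen (π * b) ≤ U ⊓ X.basicOpen (π * f) := fun q hq => by
    have h1 := mem_basicOpen_mul.1 hq
    exact ⟨(hble h1.2).2.1, mem_basicOpen_mul.2 ⟨h1.1, (hble h1.2).2.2⟩⟩
  have hOb : X.basicOpen (π * b) ≤ X.basicOpen b := fun q hq => (mem_basicOpen_mul.1 hq).2
  have hbN : X.basicOpen b ≤ N := fun q hq => (hble hq).1
  obtain ⟨lam, hlam⟩ := (hh _ (hOb.trans hbN)).2 (res F hOg g)
  obtain ⟨mu, hmu⟩ := (hg _ hOg).2 (res F (hOb.trans hbN) h)
  change lam • _ = _ at hlam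
  change mu • _ = _ at hmu
  haveI := hDa.isLocalization_basicOpen (π * b)
  obtain ⟨m, c, hc⟩ := IsLocalization.Away.surj (π * b) lam
  obtain ⟨l, d, hd⟩ := IsLocalization.Away.surj (π * b) mu
  replace hc : lam * resO X (X.basicOpen_le _) (π * b) ^ m = resO X (X.basicOpen_le _) c := hc
  replace hd : mu * resO X (X.basicOpen_le _) (π * b) ^ l = resO X (X.basicOpen_le _) d := hd
  have hlm : mu * lam = 1 := (hh _ (hOb.trans hbN)).1 (by
    change (mu * lam) • _ = (1 : Γ(X, X.basicOpen (π * b))) • _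
    rw [mul_smul, hlam, hmu, one_smul])
  have hcd : c * d = (π * b) ^ (m + l) := hD.inj (X.basicOpen_le (π * b)) le_rfl ho (by
    rw [map_mul, ← hc, ← hd, map_pow, map_mul, mul_mul_mul_comm, mul_comm lam, hlm, one_mul, pow_add])
  have hc0 : c ≠ 0 := fun e => by
    rw [e, zero_mul] at hcd
    exact pow_ne_zero _ (mul_ne_zero hπ.ne_zero fun e' => hπb (by rw [e']; exact dvd_zero π)) hcd.symm
  obtain ⟨k, c', hπc', rfl⟩ := WfDvdMonoid.max_power_factor hc0 hπ.irreducible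
  have hc'dvd : c' ∣ b ^ (m + l) := by
    have hN : c' * (π ^ k * d) = π ^ (m + l) * b ^ (m + l) := by rw [← mul_pow, ← hcd]; ring
    obtain ⟨e, he⟩ := hπ.pow_dvd_of_dvd_mul_left (m + l) hπc' ⟨_, hN⟩
    exact ⟨e, mul_left_cancel₀ (pow_ne_zero (m + l) hπ.ne_zero) (by rw [← hN, he]; ring)⟩
  have hub := Groth.Agent.QC.isUnit_resO_basicOpen hDa b
  have huc' : IsUnit (resO X (X.basicOpen_le b) c') :=
    isUnit_of_dvd_unit (map_dvd _ hc'dvd) (by rw [map_pow]; exact hub.pow _)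
  let h' : Γ(F, X.basicOpen b) := (resO X (X.basicOpen_le b) c' * (hub.unit⁻¹ ^ m).val) • res F hbN h
  have hh' : IsGen h' := isGen_unit_smul (hh.res _) (huc'.mul (hub.unit⁻¹ ^ m).isUnit)
  have huπ : IsUnit (resO X ((inf_le_right : U ⊓ X.basicOpen (π * f) ≤ _).trans (X.basicOpen_le _)) π) := by
    have h1 := (Groth.Agent.QC.isUnit_resO_basicOpen hDa (π * f)).map
      (resO X (inf_le_right : U ⊓ X.basicOpen (π * f) ≤ _))
    rw [resO_resO, map_mul] at h1
    exact isUnit_of_mul_isUnit_left h1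
  let g' : Γ(F, U ⊓ X.basicOpen (π * f)) := (huπ.unit ^ m * (huπ.unit⁻¹ ^ k)).val • g
  have hg' : IsGen g' := isGen_unit_smul hg (Units.isUnit _)
  have hagree : res F hOg g' = res F hOb h' := by
    simp only [g', h', res_smul, res_res, ← hlam, smul_smul, Units.val_mul, map_mul,
      Units.val_pow_eq_pow_val, map_pow, IsUnit.unit_spec, resO_resO]
    congr 1
    have h1 := congrArg (resO X hOg) huπ.mul_val_inv
    have h2 := congrArg (resO X hOb) hub.mul_val_inv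
    simp only [map_mul, map_one, resO_resO] at h1 h2
    have hc1 := hc
    simp only [map_mul, map_pow] at hc1
    generalize resO X hOg huπ.unit⁻¹.val = p at h1 ⊢
    generalize resO X hOb hub.unit⁻¹.val = q at h2 ⊢
    have h1' : resO X (X.basicOpen_le (π * b)) π ^ k * p ^ k = 1 := by rw [← mul_pow, h1, one_pow]
    have h2' : resO X (X.basicOpen_le (π * b)) b ^ m * q ^ m = 1 := by rw [← mul_pow, h2, one_pow]
    linear_combination (p ^ k * q ^ m) * hc1 +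
      (resO X (X.basicOpen_le (π * b)) c' * q ^ m) * h1' -
      (resO X (X.basicOpen_le (π * b)) π ^ m * p ^ k * lam) * h2'
  refine exists_glue hF hD ((inf_le_right).trans (X.basicOpen_le f)) (X.basicOpen_le (π * b)) ho
    (res F hOg g') fun ⟨q, hqU, hqf⟩ => ?_
  by_cases hqπ : q ∈ X.basicOpen π
  · refine ⟨U ⊓ X.basicOpen (π * f), g', ⟨hqU, mem_basicOpen_mul.2 ⟨hqπ, hqf⟩⟩,
      fun w hw => ⟨hw.1, (mem_basicOpen_mul.1 hw.2).2⟩, hg', ?_⟩
    rw [res_res]
  obtain ⟨Nq, hq, hqN, hhq⟩ := hF.gen q hqU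
  obtain ⟨a, hale, hqa⟩ := hDa.exists_basicOpen_le (⟨q, hqN, hqU, hqf⟩ : (Nq ⊓ (U ⊓ X.basicOpen f) : X.Opens)) (hUD hqU)
  have hπa : ¬ π ∣ a := fun ⟨t, ht⟩ => hqπ (by
    rw [ht] at hqa; exact (mem_basicOpen_mul.1 hqa).1)
  have haN : X.basicOpen a ≤ Nq := fun w hw => (hale hw).1
  have hpa : X.basicOpen (π * a) ≤ X.basicOpen a := fun w hw => (mem_basicOpen_mul.1 hw).2
  have hpag : X.basicOpen (π * a) ≤ U ⊓ X.basicOpen (π * f) := fun w hw =>
    ⟨(hale (hpa hw)).2.1, mem_basicOpen_mul.2 ⟨(mem_basicOpen_mul.1 hw).1, (hale (hpa hw)).2.2⟩⟩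
  have habN : X.basicOpen (a * b) ≤ Nq := fun w hw => haN (mem_basicOpen_mul.1 hw).1
  have habb : X.basicOpen (a * b) ≤ X.basicOpen b := fun w hw => (mem_basicOpen_mul.1 hw).2
  obtain ⟨o₁, ho₁, ho₁'⟩ := hD.inter (X.basicOpen_le (π * b)) (X.basicOpen_le a) ho hqa
  let O := X.basicOpen (π * b) ⊓ X.basicOpen a
  have hO₁ : O ≤ X.basicOpen (π * a) := fun w hw =>
    mem_basicOpen_mul.2 ⟨(mem_basicOpen_mul.1 hw.1).1, hw.2⟩
  have hO₂ : O ≤ X.basicOpen (a * b) := fun w hw => mem_basicOpen_mul.2 ⟨hw.2, hOb hw.1⟩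
  have hπab : ¬ π ∣ a * b := hπ.not_dvd_mul hπa hπb
  have hagree' : res F (hO₁.trans hpag) g' = res F (hO₂.trans habb) h' := by
    have := congrArg (res F (inf_le_left : O ≤ X.basicOpen (π * b))) hagree
    rwa [res_res, res_res] at this
  have hO : O ≤ Nq := hO₂.trans habN
  -- coefficient of `g'` against the generator near `q`, and its inverse
  obtain ⟨μ, hμ⟩ := (hhq _ (hpa.trans haN)).2 (res F hpag g')
  obtain ⟨ν, hν⟩ := (hhq _ habN).2 (res F habb h')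
  obtain ⟨μ', hμ'⟩ := (hg' _ hpag).2 (res F (hpa.trans haN) hq)
  obtain ⟨ν', hν'⟩ := (hh' _ habb).2 (res F habN hq)
  change μ • _ = _ at hμ
  change ν • _ = _ at hν
  change μ' • _ = _ at hμ'
  change ν' • _ = _ at hν'
  have e₁ : resO X hO₁ μ = resO X hO₂ ν := (hhq O hO).1 (by
    have e1 := congrArg (res F hO₁) hμ
    have e2 := congrArg (res F hO₂) hν
    rw [res_smul, res_res, res_res] at e1 e2
    exact (e1.trans hagree').trans e2.symm)
  have e₂ : resO X hO₁ μ' = resO X hO₂ ν' := (hg' O (hO₁.trans hpag)).1 (by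
    have e1 := congrArg (res F hO₁) hμ'
    have e2 := congrArg (res F hO₂) hν'
    rw [res_smul, res_res, res_res] at e1 e2
    rw [← hagree'] at e2
    exact e1.trans e2.symm)
  obtain ⟨μ₀, hμ₀⟩ := exists_extend_across_prime hDa hD hπ hπa hπab
    (show o₁ ∈ O from ⟨ho₁, ho₁'⟩) hO₁ hO₂ μ ν e₁ hpa
  obtain ⟨μ₁, hμ₁⟩ := exists_extend_across_prime hDa hD hπ hπa hπab
    (show o₁ ∈ O from ⟨ho₁, ho₁'⟩) hO₁ hO₂ μ' ν' e₂ hpa
  have hunit : IsUnit μ₀ := by
    refine IsUnit.of_mul_eq_one μ₁ (hD.inj hpa (X.basicOpen_le a) (hO₁ ⟨ho₁, ho₁'⟩) ?_)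
    rw [map_mul, hμ₀, hμ₁, map_one]
    apply (hg' _ hpag).1
    change (μ * μ') • _ = (1 : Γ(X, X.basicOpen (π * a))) • _
    rw [mul_smul, hμ', hμ, one_smul]
  refine ⟨X.basicOpen a, μ₀ • res F haN hq, hqa, fun w hw => (hale hw).2, isGen_unit_smul (hhq.res _) hunit, ?_⟩
  have hle : X.basicOpen a ⊓ X.basicOpen (π * b) ≤ X.basicOpen (π * a) := fun w hw =>
    mem_basicOpen_mul.2 ⟨(mem_basicOpen_mul.1 hw.2).1, hw.1⟩
  have e3 := congrArg (res F hle) hμ
  rw [res_smul, res_res, res_res, ← hμ₀, resO_resO] at e3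
  rw [res_smul, res_res, res_res, e3]

/-- A generator over the whole open. -/
theorem exists_gen_of_ufd (hF : RankOne U F) (hDa : IsAffineOpen D) (hD : IntOpen X D)
    [UniqueFactorizationMonoid Γ(X, D)] (hUD : U ≤ D) {u₀ : X} (hu₀ : u₀ ∈ U) :
    ∃ e : Γ(F, U), IsGen e := by
  haveI := hD.dom le_rfl (hUD hu₀)
  obtain ⟨N, g, huN, hg⟩ := hF.gen u₀ hu₀
  obtain ⟨f₀, hf₀, hfle, -⟩ :=
    exists_nonzero_basicOpen_le hDa (W := N ⊓ U) ⟨huN, hu₀⟩ (hUD hu₀)
  suffices key : ∀ f : Γ(X, D), f ≠ 0 → (∃ g : Γ(F, U ⊓ X.basicOpen f), IsGen g) →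
      ∃ e : Γ(F, U), IsGen e from
    key f₀ hf₀ ⟨_, hg.res (fun q hq => (hfle hq.2).1 : U ⊓ X.basicOpen f₀ ≤ N)⟩
  intro f
  induction f using UniqueFactorizationMonoid.induction_on_prime with
  | h₁ => exact fun h => absurd rfl h
  | h₂ f hf =>
    rintro - ⟨g, hg⟩
    have hle : U ≤ U ⊓ X.basicOpen f := le_inf le_rfl (by rw [Scheme.basicOpen_of_isUnit _ hf]; exact hUD)
    exact ⟨_, hg.res hle⟩
  | h₃ f π hf hπ ih =>
    rintro - ⟨g, hg⟩
    exact ih hf (exists_gen_step hF hDa hD hUD hπ g hg)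

end Groth.Agent.UfdExtend
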